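import Cfsg.Agent.Lib.HL3.Defs
import Cfsg.Agent.S0414
import Cfsg.Agent.S1663

/-! The case `q = 4`, `m = 1`: the fixed point sets of involutions form an `S(3,6,22)`. -/

namespace H45.HL

variable {G : Type*} [Group G] [Finite G]

namespace M22

open scoped Pointwise

variable {Ω : Type*} [MulAction G Ω] [Finite Ω] {N : Ω → Subgroup G} {φ : Ω → Ω → Subgroup G}

omit [Finite G] [Finite Ω] in
theorem inj (h : CQ 4 N φ 1) {a y y' : Ω} (hy : a ≠ y) (hy' : a ≠ y') (e : φ a y = φ a y') :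
    y = y' := by
  have c := h.cnt a {φ a y} (by rintro _ rfl; exact ⟨y, hy, rfl⟩)
  rw [Set.ncard_singleton] at c
  obtain ⟨w, hw⟩ := Set.ncard_eq_one.1 c
  have h1 : y ∈ ({w} : Set Ω) := hw ▸ ⟨hy, rfl⟩
  have h2 : y' ∈ ({w} : Set Ω) := hw ▸ ⟨hy', e.symm⟩
  exact h1.trans h2.symm

omit [Finite G] [Finite Ω] in
theorem tr (h : CQ 4 N φ 1) (a x y : Ω) (hx : x ≠ a) (hy : y ≠ a) : ∃ g ∈ N a, g • x = y := by
  obtain ⟨g, hg, e⟩ := h.typ hx.symm hy.symm
  have ga := h.fix a g hg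
  have e1 := h.eqv hx.symm g
  rw [ga, e] at e1
  refine ⟨g, hg, inj h (fun k => hx ?_) hy.symm e1⟩
  rw [← ga] at k
  exact (smul_left_cancel g (ga.symm ▸ k)).symm

/-- the blocks -/
def Bl (N : Ω → Subgroup G) : Set (Finset Ω) :=
  {b | ∃ p, ∃ t ∈ N p, t * t = 1 ∧ t ≠ 1 ∧ (b : Set Ω) = Fx t}

omit [Finite G] in
theorem steiner (h : CQ 4 N φ 1) : Cfsg.IsSteinerSystem 3 6 (Bl N) := by
  classical
  refine ⟨?_, fun s hs => ?_⟩
  · rintro b ⟨p, t, ht, t2, t1, e⟩
    have := h.cardz p t ht t2 t1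
    rwa [← e, Set.ncard_coe_finset] at this
  obtain ⟨a, b, c, ab, ac, bc, rfl⟩ := Finset.card_eq_three.1 hs
  obtain ⟨g, hg, e⟩ := h.typ ab ac
  have ne : φ a b ≠ φ a c := fun k => bc (inj h ab ac k)
  obtain ⟨V, f1, f2⟩ := (h.pl a).join (h.rad ab) g hg (e ▸ ne.symm)
  rw [e] at f2
  obtain ⟨z, zV, -, z1⟩ := f1.meet
  have hz := f1.l.le zV
  refine ⟨(Set.toFinite (Fx z : Set Ω)).toFinset, ⟨⟨a, z, hz, f1.l.sq z zV, z1, by simp⟩, ?_⟩, ?_⟩
  · intro x hx
    simp only [Finset.mem_insert, Finset.mem_singleton] at hx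
    rw [Set.Finite.mem_toFinset]
    rcases hx with rfl | rfl | rfl
    · exact h.fix _ z hz
    · exact (h.fixV ab ab f1 z zV z1).2 f1
    · exact (h.fixV ab ac f1 z zV z1).2 f2
  · rintro B ⟨⟨p, t, ht, t2, t1, eB⟩, sub⟩
    have m : ∀ x ∈ ({a, b, c} : Finset Ω), t • x = x := fun x hx => by
      have : x ∈ (B : Set Ω) := sub hx
      rwa [eB] at this
    have ta := h.p2 a p t ht t2 (m a (by simp))
    obtain ⟨V', y, ay, f, tV, -⟩ := h.lineV a t ta t2 t1
    have g1 := (h.fixV ay ab f t tV t1).1 (m b (by simp))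
    have g2 := (h.fixV ay ac f t tV t1).1 (m c (by simp))
    obtain rfl := (h.pl a).juniq f1 f2 g1 g2 ne
    apply Finset.coe_injective
    rw [eB, Set.Finite.coe_toFinset, h.fsV ab f1 t tV t1, h.fsV ab f1 z zV z1]

omit [Finite G] [Finite Ω] in
theorem smul_mem [DecidableEq Ω] (h : CQ 4 N φ 1) (g : G) {b : Finset Ω} (hb : b ∈ Bl N) :
    MulAction.toPermHom G Ω g • b ∈ Bl N := by
  obtain ⟨p, t, ht, t2, t1, e⟩ := hb
  refine ⟨g • p, g * t * g⁻¹, h.conj g p ▸ conj_mem_cj.2 ht, ?_, fun k => t1 (by simpa using k), ?_⟩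
  · calc g * t * g⁻¹ * (g * t * g⁻¹) = g * (t * t) * g⁻¹ := by group
      _ = 1 := by rw [t2]; group
  · ext x
    rw [Finset.coe_smul_finset, e, Set.mem_smul_set_iff_inv_smul_mem, ← map_inv]
    show t • g⁻¹ • x = g⁻¹ • x ↔ (g * t * g⁻¹) • x = x
    rw [mul_smul, mul_smul, smul_eq_iff_eq_inv_smul g]

end M22

open M22 Pointwise in
theorem CQ.m22 {Ω : Type*} [MulAction G Ω] [Finite Ω] {N : Ω → Subgroup G}
    {φ : Ω → Ω → Subgroup G} (h : CQ 4 N φ 1) :
    Nat.card Ω = 22 ∧ (∀ a x y, x ≠ a → y ≠ a → ∃ g ∈ N a, g • x = y) ∧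
      (Cfsg.Spor.IsoM22 G ∨ ∃ H : Subgroup G, H.index = 2 ∧ Cfsg.Spor.IsoM22 ↥H) := by
  classical
  have c22 : Nat.card Ω = 22 := h.cardΩ
  refine ⟨c22, tr h, ?_⟩
  have := Fintype.ofFinite Ω
  obtain ⟨cA, -, M, iM, sM, cM⟩ := Cfsg.Agent.S0414.result (by rw [← Nat.card_eq_fintype_card, c22])
    (steiner h)
  let f : G →* Cfsg.setSystemAut (Bl N) := (MulAction.toPermHom G Ω).codRestrict _ fun g => by
    rw [MulAction.mem_stabilizer_iff]
    ext b
    rw [Set.mem_smul_set_iff_inv_smul_mem, ← map_inv]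
    refine ⟨fun k => ?_, smul_mem h _⟩
    have := smul_mem h g k
    rwa [smul_smul, ← map_mul, mul_inv_cancel, map_one, one_smul] at this
  have fi : Function.Injective f := (injective_iff_map_eq_one f).2 fun g k =>
    h.faith g fun x => Equiv.congr_fun (congrArg Subtype.val k) x
  obtain ⟨a, b, ab⟩ := h.ne
  have : Nontrivial Ω := ⟨a, b, ab⟩
  have : MulAction.IsPretransitive G Ω := ⟨fun x y => by
    obtain ⟨x', hx⟩ := exists_ne x
    obtain ⟨y', hy⟩ := exists_ne y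
    obtain ⟨g, e, -⟩ := h.two x x' y y' hx.symm hy.symm
    exact ⟨g, e⟩⟩
  have cN : Nat.card (N a) = 20160 := by
    have := (h.pl a).card
    norm_num at this ⊢
    omega
  obtain ⟨k, hk⟩ := Subgroup.card_dvd_of_le (show N a ≤ MulAction.stabilizer G a from h.fix a)
  have cG := (MulAction.stabilizer G a).card_mul_index
  rw [MulAction.index_stabilizer_of_transitive, c22, hk, cN] at cG
  have cR := f.range.card_mul_index
  have eR := MonoidHom.ofInjective fi
  rw [← Nat.card_congr eR.toEquiv, cA, ← cG] at cR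
  have hk2 : k * f.range.index = 2 := by nlinarith
  rcases (Nat.dvd_prime Nat.prime_two).1 (Dvd.intro_left _ hk2) with i | i
  · have su : Function.Surjective f := MonoidHom.range_eq_top.1 (Subgroup.index_eq_one.1 i)
    let e := MulEquiv.ofBijective f ⟨fi, su⟩
    let e' := e.symm.subgroupMap M
    refine Or.inr ⟨_, ?_, Cfsg.Agent.S1663.result ⟨e'.symm.isSimpleGroup, by
      rw [← Nat.card_congr e'.toEquiv, cM]⟩⟩
    exact (Subgroup.index_map_equiv M e.symm).trans iM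
  · have := Subgroup.normal_of_index_eq_two i
    rcases sM.eq_bot_or_eq_top_of_normal (f.range.subgroupOf M) inferInstance with k0 | k0
    · have := Subgroup.relIndex_dvd_index_of_normal f.range M
      rw [Subgroup.relIndex, k0, Subgroup.index_bot, cM, i] at this
      omega
    · have cG' : Nat.card G = 443520 := by rw [i] at hk2; omega
      have eM : M = f.range := Subgroup.eq_of_le_of_card_ge (Subgroup.subgroupOf_eq_top.1 k0)
        (by rw [← Nat.card_congr eR.toEquiv, cG', cM])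
      rw [← eM] at eR
      exact Or.inl (Cfsg.Agent.S1663.result ⟨eR.isSimpleGroup, cG'⟩)

end H45.HL
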