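import Cfsg.Agent.Lib.HL3.Psl
import Cfsg.Agent.Lib.HL3.Pl1
import Cfsg.Agent.Lib.HL3.Pl2
import Cfsg.Agent.Lib.HL3.Pl3
import Cfsg.Agent.Lib.HL3.Dich
import Cfsg.Agent.Lib.HL3.BP
import Cfsg.Agent.Lib.HL3.BB
import Cfsg.Agent.Lib.HL3.CB1
import Cfsg.Agent.Lib.HL3.CB2
import Cfsg.Agent.Lib.HL3.P1
import Cfsg.Agent.Lib.HL3.Semi
import Cfsg.Agent.Lib.HL3.Cnt
import Cfsg.Agent.Lib.HL3.M22
import Cfsg.Agent.Lib.HL3.Par
import Cfsg.Agent.Lib.HL3.AF1
import Cfsg.Agent.Lib.HL3.AF2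
import Cfsg.Agent.Lib.HL3.AF3
import Cfsg.Agent.Lib.HL3.AF4

namespace H45.HL

variable {G : Type*} [Group G] [Finite G] {Ω : Type*} [MulAction G Ω] [Finite Ω]

theorem main {q : ℕ} {N : Ω → Subgroup G} (h : Cf q N) :
    (∀ a x y, x ≠ a → y ≠ a → ∃ g ∈ N a, g • x = y) ∧
    ((Nat.gcd 3 (q - 1) = 1 ∧ ∃ E : Subgroup G, Reg Ω E ∧ Nat.card E = q ^ 3) ∨
      (Nat.card Ω = 22 ∧ q = 4 ∧
        (Cfsg.Spor.IsoM22 G ∨ ∃ H : Subgroup G, H.index = 2 ∧ Cfsg.Spor.IsoM22 ↥H))) := by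
  rcases dich h with hp | hb
  · obtain ⟨φ, m, hP⟩ := cp_of h hp
    have hQ := hP.cq
    obtain ⟨hm | ⟨rfl, rfl⟩, hs⟩ := hQ.cnt2
    · have hpar := hQ.par hm
      have ht := hQ.tr1 hm hpar
      obtain ⟨E, hE⟩ := hQ.reg hm hQ.semi ht (hQ.dd hpar ht hs)
      obtain ⟨h1, h2⟩ := hQ.fin hm hE
      refine ⟨h1, Or.inl ⟨h2, E, hE, ?_⟩⟩
      rw [hE.card, hQ.cardΩ, ← hm]; ring
    · obtain ⟨h1, h2, h3⟩ := hQ.m22
      exact ⟨h2, Or.inr ⟨h1, rfl, h3⟩⟩
  · obtain ⟨ψ, m, hB⟩ := cb_of h hb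
    exact (hB.false hB.p2).elim

theorem L0.cj {q : ℕ} {N V Q : Subgroup G} (h : L0 q N V Q) (g : G) :
    L0 q (cj g N) (cj g V) (cj g Q) where
  pow := h.pow
  card := by rw [card_cj]; exact h.card
  simple := by
    intro K hK hn
    have := h.simple (HL.cj g⁻¹ K) (by simpa using (cj_mono hK : HL.cj g⁻¹ K ≤ _)) (by
      intro a ha k hk
      rw [mem_cj] at hk ⊢
      have := hn _ (conj_mem_cj.2 ha : g * a * g⁻¹ ∈ _) _ hk
      convert this using 1; group)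
    rcases this with e | e
    · left; rw [← cj_cj_inv g K, e]; exact Subgroup.map_bot _
    · right; rw [← cj_cj_inv g K, e]
  radV := h.radV.cj g
  radQ := h.radQ.cj g
  cardW := by rw [← cj_inf, card_cj]; exact h.cardW
  comm := by
    rintro _ ⟨v, hv, rfl⟩ _ ⟨y, hy, rfl⟩
    rw [← cj_inf, mem_cj]
    convert h.comm v hv y hy using 1
    simp [mul_assoc]
  pair := by
    rintro _ ⟨v, hv, rfl⟩ _ ⟨y, hy, rfl⟩ e
    have e' : v * y = y * v := (MulAut.conj g).injective (by simpa using e)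
    exact (h.pair v hv y hy e').imp (fun a => conj_mem_cj.2 a) (fun a => conj_mem_cj.2 a)
  invc := by
    rintro _ ⟨z, hz, rfl⟩ e
    have e' : z * z = 1 := (MulAut.conj g).injective (by simpa using e)
    obtain ⟨k, hk, hk'⟩ := h.invc z hz e'
    refine ⟨g * k * g⁻¹, conj_mem_cj.2 hk, ?_⟩
    rw [← cj_inf, mem_cj]
    convert hk' using 1
    simp [mul_assoc]
  cent := by
    rw [← cj_inf]
    rintro _ ⟨z, hz, rfl⟩ hz1 _ ⟨k, hk, rfl⟩ e1 e2
    have a1 : k * k = 1 := (MulAut.conj g).injective (by simpa using e1)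
    have a2 : k * z = z * k := (MulAut.conj g).injective (by simpa using e2)
    exact (h.cent z hz (by rintro rfl; simp at hz1) k hk a1 a2).imp (fun a => conj_mem_cj.2 a)
      (fun a => conj_mem_cj.2 a)
  type := by
    rintro _ ⟨k, hk, rfl⟩ e
    apply h.type k hk
    apply cj_inj (g := g)
    rw [← e, ← cj_mul, ← cj_mul]; simp
  joinV := by
    rintro _ ⟨k, hk, rfl⟩
    obtain ⟨y, hy, y', hy', a, b, c⟩ := h.joinV k hk
    refine ⟨g * y * g⁻¹, conj_mem_cj.2 hy, g * y' * g⁻¹, ?_, by simpa using a, by simpa using b, ?_⟩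
    · rw [← cj_mul]; simp only [MulEquiv.toMonoidHom_eq_coe, MonoidHom.coe_coe, MulAut.conj_apply,
        inv_mul_cancel_right]
      rw [cj_mul]; exact conj_mem_cj.2 hy'
    · calc g * y * g⁻¹ * (g * y' * g⁻¹) = g * (y * y') * g⁻¹ := by group
        _ = _ := by rw [c]; group
  joinQ := by
    rintro _ ⟨k, hk, rfl⟩
    obtain ⟨y, hy, y', hy', a, b, c⟩ := h.joinQ k hk
    refine ⟨g * y * g⁻¹, conj_mem_cj.2 hy, g * y' * g⁻¹, ?_, by simpa using a, by simpa using b, ?_⟩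
    · rw [← cj_mul]; simp only [MulEquiv.toMonoidHom_eq_coe, MonoidHom.coe_coe, MulAut.conj_apply,
        inv_mul_cancel_right]
      rw [cj_mul]; exact conj_mem_cj.2 hy'
    · calc g * y * g⁻¹ * (g * y' * g⁻¹) = g * (y * y') * g⁻¹ := by group
        _ = _ := by rw [c]; group

theorem exists_cf {q : ℕ}
    (two : ∀ x y x' y' : Ω, x ≠ y → x' ≠ y' → ∃ g : G, g • x = x' ∧ g • y = y')
    (faith : ∀ g : G, (∀ x : Ω, g • x = x) → g = 1) (hev : Even (Nat.card Ω)) (a : Ω)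
    {N V Q : Subgroup G} (hfix : ∀ h ∈ N, h • a = a)
    (hn : ∀ g : G, g • a = a → ∀ x ∈ N, g * x * g⁻¹ ∈ N) (hL : L0 q N V Q) :
    ∃ M : Ω → Subgroup G, Cf q M ∧ M a = N := by
  have hne : ∃ x y : Ω, x ≠ y := by
    by_contra hc
    push_neg at hc
    have : Nat.card Ω = 1 := Nat.card_eq_one_iff_exists.2 ⟨a, fun y => hc y a⟩
    rw [this] at hev; exact absurd hev (by decide)
  have tr : ∀ x : Ω, ∃ g : G, g • a = x := by
    intro x
    obtain ⟨u, v, huv⟩ := hne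
    obtain ⟨a', ha'⟩ : ∃ a', a ≠ a' := by
      by_cases e : a = u
      · exact ⟨v, e ▸ huv⟩
      · exact ⟨u, e⟩
    obtain ⟨x', hx'⟩ : ∃ x', x ≠ x' := by
      by_cases e : x = u
      · exact ⟨v, e ▸ huv⟩
      · exact ⟨u, e⟩
    obtain ⟨g, hg, -⟩ := two a a' x x' ha' hx'
    exact ⟨g, hg⟩
  choose γ hγ using tr
  have key : ∀ g : G, ∀ x, g • a = x → cj g N = cj (γ x) N := by
    intro g x hg
    have : cj ((γ x)⁻¹ * g) N = N := cj_eq_of_conj_mem (hn _ (by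
      rw [mul_smul, hg, inv_smul_eq_iff, hγ]))
    rw [← cj_cj_inv (γ x) (cj g N), ← cj_mul (γ x)⁻¹, this]
  have hPl : ∀ g : G, Pl q (cj g N) := fun g =>
    have h1 := pl1 (hL.cj g)
    have h2 := pl2 h1
    { h1, h2, pl3 h1 h2 with }
  have hconj : ∀ (g : G) (x : Ω), cj g (cj (γ x) N) = cj (γ (g • x)) N := by
    intro g x
    rw [← cj_mul]; exact key _ _ (by rw [mul_smul, hγ])
  have hfx : ∀ x, ∀ h ∈ cj (γ x) N, h • x = x := by
    intro x h hh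
    have := hfix _ (mem_cj.1 hh)
    rw [mul_smul, mul_smul, hγ, inv_smul_eq_iff, hγ] at this
    exact this
  refine ⟨fun x => cj (γ x) N, ⟨two, faith, hev, hne, hconj, hfx, ?_, fun x => hPl _⟩, ?_⟩
  · intro x y hxy
    by_contra hc
    push_neg at hc
    obtain ⟨V', Q', hF⟩ := (hPl (γ x)).ex
    obtain ⟨z, hz, -, hz1⟩ := hF.meet
    refine hz1 (faith z fun p => ?_)
    by_cases e : x = p
    · subst e; exact hfx _ _ (hF.l.le hz)
    · obtain ⟨g, hg1, hg2⟩ := two x y x p hxy e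
      have hz' : g⁻¹ * z * g ∈ cj (γ x) N := by
        rw [← mem_cj, hconj, hg1]; exact hF.l.le hz
      have := hc _ hz'
      rwa [mul_smul, mul_smul, hg2, inv_smul_eq_iff, hg2] at this
  · show cj (γ a) N = N
    rw [← key 1 a (one_smul _ _), cj_one]

end H45.HL
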